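import Groth.Agent.SHomIso.Basic
import Groth.Agent.HomShQC.Stalk

/-!
# Stalks of the sheaf Hom
-/

set_option autoImplicit false

universe u

open CategoryTheory AlgebraicGeometry

noncomputable section

namespace Groth.Agent.SHomIso.Stalk

open Groth.Agent.PullStalk.Exact Groth.Agent.Omega.Stalks

variable {X : Scheme.{u}}

/-- An isomorphism on stalks. -/
def stalkIso {M N : X.Modules} (e : M ≅ N) (x : X) :
    M.presheaf.stalk x ≃ₗ[X.presheaf.stalk x] N.presheaf.stalk x :=
  LinearEquiv.ofBijective (stalkLin e.hom x)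
    ⟨stalkLin_injective_of_mono e.hom x, stalk_surjective e.hom x⟩

/-- The stalk of the sheaf Hom. -/
theorem nonempty_stalkEquiv (F G : X.Modules) [DCoh.HasSheafHom F] (hF : CohB1.IsFP F) (x : X) :
    Nonempty (((DCoh.sheafHom F).obj G).presheaf.stalk x ≃ₗ[X.presheaf.stalk x]
      (F.presheaf.stalk x →ₗ[X.presheaf.stalk x] G.presheaf.stalk x)) := by
  obtain ⟨e⟩ := Basic.nonempty_iso F G
  exact ⟨(stalkIso e x).trans
    (LinearEquiv.ofBijective _ (HomShQC.evalStalk_bijective F G hF x))⟩

end Groth.Agent.SHomIso.Stalk
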