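import Groth.Agent.ExtFilt.Stalkwise
import Groth.Agent.HomShEval.QCoh
import Groth.Agent.VBLib.Curry
import Groth.Agent.ExtHom.Linear

/-!
# The adjoint sheaf Hom is the sheaf of local homomorphisms
-/

set_option autoImplicit false
set_option linter.style.haveILetI false

universe u

open CategoryTheory CategoryTheory.Limits AlgebraicGeometry TopologicalSpace Opposite TensorProduct

noncomputable section

namespace Groth.Agent.SHomIso.Basic

open Groth.Agent.PullStalk.Sky Groth.Agent.PullStalk.Exact Groth.Agent.Omega.Stalks Groth.Agent.QCoh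
  Groth.Agent.KFlat.StalkTensor Groth.Agent.ExtFilt.Stalkwise

variable {X : Scheme.{u}} (F G : X.Modules)

/-- The evaluation on stalks. -/
def evFun (x : X) : (tensM F (RefHull.homSh F G)).presheaf.stalk x →ₗ[X.presheaf.stalk x] G.presheaf.stalk x :=
  TensorProduct.lift (RefHull.evalStalk F G x).flip ∘ₗ toTensor F (RefHull.homSh F G) x

theorem evFun_tgerm {U : X.Opens} (y : X) (hy : y ∈ U) (m : Γ(F, U)) (g : Γ(RefHull.homSh F G, U)) :
    evFun F G y (tgerm F (RefHull.homSh F G) y U hy m g) = g.1 ⟨y, hy⟩ (germM F U y hy m) := by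
  rw [evFun, LinearMap.comp_apply, toTensor_tgerm, TensorProduct.lift.tmul, LinearMap.flip_apply]
  exact LinearMap.congr_fun (RefHull.evalStalk_germ F G y hy g) _

theorem loc_evFun (x : X) (t : (tensM F (RefHull.homSh F G)).presheaf.stalk x) : Loc (evFun F G) x t := by
  rw [← (stalkTensorEquiv F (RefHull.homSh F G) x).symm_apply_apply t]
  generalize stalkTensorEquiv F (RefHull.homSh F G) x t = z
  induction z using TensorProduct.induction_on with
  | zero => rw [map_zero]; exact loc_zero x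
  | add p q hp hq => rw [map_add]; exact loc_add hp hq
  | tmul p q =>
    obtain ⟨U, hx, m, g, rfl, rfl⟩ := KFlat.StalkTensor.exists_rep p q
    refine ⟨U, hx, tmulSec U m g, HomShEval.QCoh.app F G g le_rfl m, (fromTensor_germ U hx m g).symm,
      fun y hy => ?_⟩
    exact (evFun_tgerm F G y hy m g).trans (HomShEval.QCoh.germ_app F G g le_rfl m y hy).symm

/-- `Hom(F, G)` by adjunction is `Hom(F, G)` by local homomorphisms. -/
theorem nonempty_iso [DCoh.HasSheafHom F] :
    Nonempty ((DCoh.sheafHom F).obj G ≅ RefHull.homSh F G) := by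
  obtain ⟨ev, hev⟩ := exists_hom (loc_evFun F G)
  have hev' : ∀ (U : X.Opens) (y : X) (hy : y ∈ U) (m : Γ(F, U)) (g : Γ(RefHull.homSh F G, U)),
      germM G U y hy (ev.app U (tmulSec U m g)) = g.1 ⟨y, hy⟩ (germM F U y hy m) := fun U y hy m g =>
    (stalkLin_germ ev U y hy _).symm.trans ((hev y _).trans (evFun_tgerm F G y hy m g))
  let adj := DCoh.sheafHomAdj F
  let H : X.Modules := (DCoh.sheafHom F).obj G
  let ε : tensM F H ⟶ G := adj.counit.app G
  let B : ∀ U : X.Opens, Γ(H, U) →ₗ[Γ(X, U)] Γ(F, U) →ₗ[Γ(X, U)] Γ(G, U) := fun U =>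
    LinearMap.mk₂ Γ(X, U) (fun h f => ε.app U (tmulSec U f h))
      (fun h h' f => (congrArg (ε.app U) (tmulSec_add_right U f h h')).trans (map_add (ε.app U).hom _ _))
      (fun r h f => (congrArg (ε.app U) (tmulSec_smul_right U r f h)).trans (ε.app_smul r _))
      (fun h f f' => (congrArg (ε.app U) (tmulSec_add_left U f f' h)).trans (map_add (ε.app U).hom _ _))
      (fun r h f => (congrArg (ε.app U) (tmulSec_smul_left U r f h)).trans (ε.app_smul r _))
  have hB : ∀ (U V : X.Opens) (h : V ≤ U) (m : Γ(H, U)) (m' : Γ(F, U)),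
      res G h (B U m m') = B V (res H h m) (res F h m') := by
    intro U V h m m'
    refine (NatTrans.naturality_apply ε.mapPresheaf (homOfLE h).op (tmulSec U m' m)).symm.trans ?_
    exact congrArg (ε.app V) (tmulSec_res (homOfLE h) m' m)
  let α : RefHull.homSh F G ⟶ H := adj.homEquiv _ _ ev
  let β : H ⟶ RefHull.homSh F G := VBLib.Curry.hom B hB
  have hα : ((DCoh.tensorBi (X := X)).obj F).map α ≫ ε = ev :=
    (adj.homEquiv_counit (g := α)).symm.trans ((adj.homEquiv _ _).symm_apply_apply ev)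
  have hβ : ((DCoh.tensorBi (X := X)).obj F).map β ≫ ev = ε := by
    refine ExtHom.tensM_hom_ext fun U f h => sec_ext fun y hy => ?_
    change germM G U y hy (ev.app U ((((DCoh.tensorBi (X := X)).obj F).map β).app U (tmulSec U f h))) = _
    rw [ExtHom.tensorBi_map_tmulSec, hev' U y hy f]
    refine (VBLib.Curry.hom_germ B hB h ⟨y, hy⟩ U le_rfl hy f).trans ?_
    exact congrArg (fun t => germM G U y hy (B U t f)) (res_self H le_rfl h)
  refine ⟨⟨β, α, ?_, ?_⟩⟩
  · refine (adj.homEquiv_naturality_left β ev).symm.trans ?_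
    rw [hβ, adj.homEquiv_unit]
    exact adj.right_triangle_components G
  · ext U g
    refine Subtype.ext (funext fun y => LinearMap.ext fun v => ?_)
    obtain ⟨W, hW, b, rfl⟩ := exists_germM_eq F y.1 v
    rw [← germM_res' F (inf_le_left : W ⊓ U ≤ W) y.1 (show y.1 ∈ W ⊓ U from ⟨hW, y.2⟩)]
    refine (VBLib.Curry.hom_germ B hB (α.app U g) y (W ⊓ U) inf_le_right ⟨hW, y.2⟩ _).trans ?_
    have hyWU : y.1 ∈ W ⊓ U := ⟨hW, y.2⟩
    let b' : Γ(F, W ⊓ U) := res F inf_le_left b
    let g' : Γ(RefHull.homSh F G, W ⊓ U) := res (RefHull.homSh F G) inf_le_right g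
    change germM G (W ⊓ U) y.1 _ (ε.app (W ⊓ U) (tmulSec (W ⊓ U) b' (res H inf_le_right (α.app U g)))) =
      g.1 y (germM F (W ⊓ U) y.1 _ b')
    have hnat : res H (inf_le_right : W ⊓ U ≤ U) (α.app U g) = α.app (W ⊓ U) g' :=
      (NatTrans.naturality_apply α.mapPresheaf (homOfLE (inf_le_right : W ⊓ U ≤ U)).op g).symm
    rw [hnat, ← ExtHom.tensorBi_map_tmulSec]
    refine (congrArg (fun χ : tensM F (RefHull.homSh F G) ⟶ G => germM G (W ⊓ U) y.1 hyWU
      (χ.app (W ⊓ U) (tmulSec (W ⊓ U) b' g'))) hα).trans ?_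
    exact hev' _ y.1 hyWU b' g'

end Groth.Agent.SHomIso.Basic
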